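import Groth.Agent.ParCurveLib.SubStalk
import Groth.Agent.GPLib.Fib
import Groth.Agent.ParHilbLib.One
import Groth.Agent.CurveLib.Finite
import Groth.Agent.KRRAmple.Basic
import Groth.Prelude.Def_ParBun

/-!
# Parabolic degrees on curves
-/

set_option autoImplicit false
set_option backward.isDefEq.respectTransparency false
set_option linter.style.haveILetI false
set_option linter.unusedSectionVars false
set_option maxHeartbeats 1000000
set_option synthInstance.maxHeartbeats 200000

universe u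

open CategoryTheory CategoryTheory.Limits AlgebraicGeometry TopologicalSpace
open Groth.Agent.PullbackMod Groth.Agent.DCohLib Groth.Agent.VBLib

noncomputable section

namespace Groth.Agent.ParCurve

section Combinatorics

/-- A weighted sum is nonnegative when all the tails are. -/
theorem sum_mul_nonneg_of_tail {ι : Type*} [DecidableEq ι] (s : Finset ι) (z c : ι → ℝ)
    (hz : ∀ i ∈ s, 0 ≤ z i) (h : ∀ a : ℝ, 0 < a → 0 ≤ ∑ i ∈ s, if a ≤ z i then c i else 0) :
    0 ≤ ∑ i ∈ s, z i * c i := by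
  induction s using Finset.strongInduction generalizing z with
  | _ s ih =>
    rcases s.eq_empty_or_nonempty with rfl | hne
    · simp
    · obtain ⟨m, hm, hmin⟩ := s.exists_min_image z hne
      have hsplit : ∑ i ∈ s, z i * c i = z m * ∑ i ∈ s, c i + ∑ i ∈ s.erase m, (z i - z m) * c i := by
        rw [Finset.mul_sum, ← Finset.add_sum_erase s (fun i => z i * c i) hm,
          ← Finset.add_sum_erase s (fun i => z m * c i) hm, add_assoc, ← Finset.sum_add_distrib]
        congr 1
        exact Finset.sum_congr rfl fun i _ => by ring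
      rw [hsplit]
      refine add_nonneg ?_ (ih _ (Finset.erase_ssubset hm) (fun i => z i - z m)
        (fun i hi => sub_nonneg.2 (hmin i (Finset.mem_of_mem_erase hi))) fun a ha => ?_)
      · rcases (hz m hm).eq_or_lt with h0 | hpos
        · rw [← h0, zero_mul]
        · refine mul_nonneg hpos.le ((h (z m) hpos).trans (le_of_eq (Finset.sum_congr rfl fun i hi => ?_)))
          rw [if_pos (hmin i hi)]
      · refine (h (a + z m) (by linarith [hz m hm])).trans (le_of_eq ?_)
        rw [← Finset.add_sum_erase s _ hm, if_neg (by linarith), zero_add]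
        refine Finset.sum_congr rfl fun i _ => ?_
        by_cases hi : a ≤ z i - z m
        · rw [if_pos hi, if_pos (by linarith)]
        · rw [if_neg hi, if_neg (by linarith)]

end Combinatorics

variable {X : Scheme.{u}}

/-- Where a real number sits among the weights. -/
theorem at_cases {n : ℕ} (w : Fin (n + 1) → ℝ) (a : ℝ) :
    (∀ j, w j < a) ∨ ∃ j, a ≤ w j ∧ ∀ j' < j, w j' < a := by
  classical
  by_cases h : ∀ j, w j < a
  · exact Or.inl h
  · push Not at h
    obtain ⟨j, hj, hmin⟩ := (Finset.univ.filter fun j => a ≤ w j).exists_min_image id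
      (by obtain ⟨j, hj⟩ := h; exact ⟨j, Finset.mem_filter.2 ⟨Finset.mem_univ _, hj⟩⟩)
    refine Or.inr ⟨j, (Finset.mem_filter.1 hj).2, fun j' hj' => lt_of_not_ge fun hle => ?_⟩
    exact absurd (hmin j' (Finset.mem_filter.2 ⟨Finset.mem_univ _, hle⟩)) (not_le.2 hj')

theorem rg_at_induced {W M : X.Modules} (ι : W ⟶ M) (𝓔 : ParSh.Str M) (a : ℝ) (x : X) :
    rg ((𝓔.induced ι).at a) x = (rg (𝓔.at a) x).comap (stalkLin ι x) := by
  rcases at_cases 𝓔.wt a with h | ⟨j, hj, hlt⟩
  · rw [(𝓔.induced ι).at_eq_bot h, 𝓔.at_eq_bot h]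
    exact rg_pullback ι _ x
  · rw [(𝓔.induced ι).at_eq_piece j hj hlt, 𝓔.at_eq_piece j hj hlt]
    exact rg_pullback ι _ x

theorem rg_at_coinduced {E G : X.Modules} (𝓔 : ParSh.Str E) (q : E ⟶ G) [Epi q] (a : ℝ) (x : X) :
    rg ((𝓔.coinduced q).at a) x = (rg (𝓔.at a) x).map (stalkLin q x) := by
  rcases at_cases 𝓔.wt a with h | ⟨j, hj, hlt⟩
  · rw [(𝓔.coinduced q).at_eq_bot h, 𝓔.at_eq_bot h]
    exact rg_image_comp _ q x
  · rw [(𝓔.coinduced q).at_eq_piece j hj hlt, 𝓔.at_eq_piece j hj hlt]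
    exact rg_image_comp _ q x

theorem isParHom_iff {A B : X.Modules} (𝒜 : ParSh.Str A) (ℬ : ParSh.Str B) (f : A ⟶ B) :
    ParSh.IsParHom 𝒜 ℬ f ↔
      ∀ a : ℝ, 0 ≤ a → a ≤ 1 → ∀ x : X, (rg (𝒜.at a) x).map (stalkLin f x) ≤ rg (ℬ.at a) x := by
  refine forall_congr' fun a => imp_congr_right fun _ => imp_congr_right fun _ => ?_
  rw [factors_iff]
  refine forall_congr' fun x => ?_
  rw [stalkLin_comp, LinearMap.range_comp]
  rfl

/-- The map induced on the saturated image is parabolic. -/
theorem isParHom_factor {E F V V' : X.Modules} {𝓔 : ParSh.Str E} {𝓕 : ParSh.Str F} {φ : E ⟶ F}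
    (hφ : ParSh.IsParHom 𝓔 𝓕 φ) (q : E ⟶ V) [Epi q] (u : V ⟶ V') (ι : V' ⟶ F) (hfac : q ≫ u ≫ ι = φ) :
    ParSh.IsParHom (𝓔.coinduced q) (𝓕.induced ι) u := by
  refine (isParHom_iff _ _ _).2 fun a h0 h1 x => ?_
  rw [rg_at_coinduced, rg_at_induced, Submodule.map_le_iff_le_comap, Submodule.map_le_iff_le_comap]
  intro z hz
  refine Submodule.mem_comap.2 (Submodule.mem_comap.2 (Submodule.mem_comap.2 ?_))
  rw [← LinearMap.comp_apply (stalkLin ι x), ← stalkLin_comp, ← LinearMap.comp_apply, ← stalkLin_comp, hfac]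
  exact (isParHom_iff _ _ _).1 hφ a h0 h1 x ⟨z, hz, rfl⟩

/-- Backwards maps in an extension give parabolic endomorphisms. -/
theorem isParHom_endo {F F' F'' : X.Modules} (𝓕 : ParSh.Str F) (i : F' ⟶ F) (p : F ⟶ F'') [Epi p] (φ : F'' ⟶ F')
    (hφ : ParSh.IsParHom (𝓕.coinduced p) (𝓕.induced i) φ) : ParSh.IsParHom 𝓕 𝓕 (p ≫ φ ≫ i) := by
  refine (isParHom_iff _ _ _).2 fun a h0 h1 x => ?_
  rintro _ ⟨z, hz, rfl⟩
  have h := (isParHom_iff _ _ _).1 hφ a h0 h1 x ⟨stalkLin p x z, by rw [rg_at_coinduced]; exact ⟨z, hz, rfl⟩, rfl⟩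
  rw [rg_at_induced, Submodule.mem_comap] at h
  rw [stalkLin_comp, stalkLin_comp]
  exact h

/-- The bottom of a quotient structure. -/
theorem along_coinduced [IsLocallyNoetherian X] {I : X.IdealSheafData} {E G : X.Modules} {𝓔 : ParSh.Str E}
    (h : 𝓔.Along I) (q : E ⟶ G) [Epi q] : (𝓔.coinduced q).Along I := by
  refine eq_of_rg_eq fun x => ?_
  refine (rg_image_comp 𝓔.bot q x).trans ?_
  rw [show 𝓔.bot = ParSh.twistSub I E from h, rg_twistSub, rg_twistSub, Submodule.map_smul'', Submodule.map_top,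
    LinearMap.range_eq_top.2 ((epi_iff_stalk q).1 inferInstance x)]

/-- The bottom of the structure induced on a subbundle. -/
theorem along_induced [IsLocallyNoetherian X] {I : X.IdealSheafData} {F W : X.Modules} {𝓕 : ParSh.Str F}
    (h : 𝓕.Along I) (ι : W ⟶ F) [Mono ι]
    (hsat : ∀ x : X, Module.Projective (X.presheaf.stalk x) ((cokernel ι).presheaf.stalk x)) :
    (𝓕.induced ι).Along I := by
  refine eq_of_rg_eq fun x => ?_
  refine (rg_pullback ι 𝓕.bot x).trans ?_
  rw [show 𝓕.bot = ParSh.twistSub I F from h, rg_twistSub, rg_twistSub]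
  haveI := hsat x
  have hinj := (mono_iff_stalk ι).1 inferInstance x
  obtain ⟨s, hs⟩ := Module.projective_lifting_property (stalkLin (cokernel.π ι) x) LinearMap.id
    ((epi_iff_stalk (cokernel.π ι)).1 inferInstance x)
  refine le_antisymm (fun z hz => ?_) (Submodule.smul_le.2 fun r hr m _ => ?_)
  · have hex := SyzLib.exact_stalkLin' (ShortComplex.mk ι (cokernel.π ι) (cokernel.condition ι))
      (ShortComplex.exact_of_g_is_cokernel _ (cokernelIsCokernel ι)) x
    have hproj : ∀ y : F.presheaf.stalk x, ∃ w, stalkLin ι x w = y - s (stalkLin (cokernel.π ι) x y) := fun y =>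
      (hex _).1 (by
        show stalkLin (cokernel.π ι) x _ = 0
        rw [map_sub, ← LinearMap.comp_apply (stalkLin (cokernel.π ι) x) s, hs, LinearMap.id_apply, sub_self])
    have key : ∀ y ∈ IntMult.stalkIdeal I x • (⊤ : Submodule (X.presheaf.stalk x) (F.presheaf.stalk x)),
        ∀ w, stalkLin ι x w = y - s (stalkLin (cokernel.π ι) x y) →
          w ∈ IntMult.stalkIdeal I x • (⊤ : Submodule (X.presheaf.stalk x) (W.presheaf.stalk x)) := by
      intro y hy
      induction hy using Submodule.smul_induction_on' with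
      | smul r hr m hm =>
        intro w hw
        obtain ⟨w₀, hw₀⟩ := hproj m
        have : w = r • w₀ := hinj (by rw [map_smul, hw₀, hw, map_smul, map_smul, smul_sub])
        rw [this]
        exact Submodule.smul_mem_smul hr trivial
      | add a _ b _ ha hb =>
        intro w hw
        obtain ⟨wa, hwa⟩ := hproj a
        obtain ⟨wb, hwb⟩ := hproj b
        have : w = wa + wb := hinj (by rw [map_add, hwa, hwb, hw, map_add, map_add]; abel)
        rw [this]
        exact add_mem (ha wa hwa) (hb wb hwb)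
    refine key _ (Submodule.mem_comap.1 hz) z ?_
    rw [← LinearMap.comp_apply (stalkLin (cokernel.π ι) x), ← stalkLin_comp, cokernel.condition,
      (eq_zero_iff_stalk _).1 rfl x, LinearMap.zero_apply, map_zero, sub_zero]
  · rw [Submodule.mem_comap, map_smul]
    exact Submodule.smul_mem_smul hr trivial

variable (k : Type u) [Field k] [X.Over (Spec (CommRingCat.of k))] [IsProper (X ↘ Spec (CommRingCat.of k))]

/-- The Euler characteristic of a subobject. -/
def eu {M : X.Modules} (S : Subobject M) : ℝ := (Curv2.euler k X (S : X.Modules) : ℝ)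

theorem eu_top {M : X.Modules} : eu k (⊤ : Subobject M) = (Curv2.euler k X M : ℝ) :=
  congrArg (Int.cast : ℤ → ℝ) (CurveLib.euler_iso (K := k) (asIso (⊤ : Subobject M).arrow))

/-- The weights past a point: the tail of the weighted filtration. -/
theorem tail_eq {V : X.Modules} (𝒜 : ParSh.Str V) {a : ℝ} (ha : a ≤ 1) :
    (∑ j : Fin (𝒜.l + 1), if a ≤ 𝒜.wt j then eu k (𝒜.piece j) - eu k (𝒜.pieceX j.succ) else 0) =
      eu k (𝒜.at a) - eu k 𝒜.bot := by
  classical
  let g : Fin (𝒜.l + 2) → ℝ := fun j => if a ≤ 𝒜.wtX j then eu k (𝒜.pieceX j) else eu k (𝒜.at a)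
  have h0 : g 0 = eu k (𝒜.at a) := by
    show (if a ≤ 𝒜.wtX 0 then eu k (𝒜.pieceX 0) else eu k (𝒜.at a)) = _
    have e0 : (0 : Fin (𝒜.l + 2)) = (0 : Fin (𝒜.l + 1)).castSucc := rfl
    rw [e0, 𝒜.wtX_castSucc, 𝒜.pieceX_castSucc]
    split_ifs with h
    · rw [𝒜.at_eq_top h, 𝒜.piece_zero]
    · rfl
  have hlast : g (Fin.last _) = eu k 𝒜.bot := by
    show (if a ≤ 𝒜.wtX (Fin.last _) then eu k (𝒜.pieceX (Fin.last _)) else eu k (𝒜.at a)) = _
    rw [𝒜.wtX_last, 𝒜.pieceX_last, if_pos ha]
  have t := ParHilbLib.sum_telescope g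
  rw [h0, hlast] at t
  rw [← neg_sub, ← t, ← Finset.sum_neg_distrib]
  refine Finset.sum_congr rfl fun j _ => ?_
  show _ = -((if a ≤ 𝒜.wtX j.succ then eu k (𝒜.pieceX j.succ) else eu k (𝒜.at a)) -
    (if a ≤ 𝒜.wtX j.castSucc then eu k (𝒜.pieceX j.castSucc) else eu k (𝒜.at a)))
  rw [𝒜.wtX_castSucc, 𝒜.pieceX_castSucc]
  by_cases h : a ≤ 𝒜.wt j
  · have hs : a ≤ 𝒜.wtX j.succ := h.trans (by
      have := ParHilbLib.wtX_le_succ 𝒜 j
      rwa [𝒜.wtX_castSucc] at this)
    rw [if_pos h, if_pos h, if_pos hs, neg_sub]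
  · rw [if_neg h, if_neg h]
    split_ifs with hs
    · have hat : 𝒜.at a = 𝒜.pieceX j.succ := by
        revert hs h
        induction j using Fin.lastCases with
        | last =>
          intro h _
          rw [𝒜.pieceX_succ_last]
          exact 𝒜.at_eq_bot fun j' => lt_of_le_of_lt (𝒜.wt_strictMono.monotone (Fin.le_last j')) (not_le.1 h)
        | cast i =>
          intro h hs
          rw [Fin.succ_castSucc, 𝒜.wtX_castSucc] at hs
          rw [Fin.succ_castSucc, 𝒜.pieceX_castSucc]
          refine 𝒜.at_eq_piece i.succ hs fun j' hj' => lt_of_le_of_lt (𝒜.wt_strictMono.monotone ?_) (not_le.1 h)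
          exact Fin.le_castSucc_iff.2 hj'
      rw [hat, sub_self, neg_zero]
    · rw [sub_self, neg_zero]

variable [IsIntegral X] [Smooth (X ↘ Spec (CommRingCat.of k))] (hdim : topologicalKrullDim X = 1)
  {I : X.IdealSheafData} (hD : FGA.IsEffCartier I)

include k hdim hD in
/-- `I · V` is coherent, with finite quotient at closed points of full rank. -/
theorem twistSub_data {V : X.Modules} {n : ℕ} (hV : FlatMod.IsFinLocFreeOfRank n V) :
    Coh.IsCoh ((ParSh.twistSub I V : Subobject V) : X.Modules) ∧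
      (CohB1.support (cokernel (ParSh.twistSub I V).arrow)).Finite ∧
      (∀ x ∈ CohB1.support (cokernel (ParSh.twistSub I V).arrow), IsClosed ({x} : Set X)) ∧
      genericPoint X ∉ CohB1.support (cokernel (ParSh.twistSub I V).arrow) := by
  haveI := EulerIneqLib.isNoetherian_proper (X := X) k
  have hVc := VBLib.isCoh_of_rank hV
  have hI0 := GPLib.dim_support (I := I) hdim.le hD
  have hsub : CohB1.support (cokernel (ParSh.twistSub I V).arrow) ⊆ (I.support : Set X) :=
    (ParHilbLib.support_coker_twistSub I V).trans Set.inter_subset_right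
  have hη : genericPoint X ∉ (I.support : Set X) := fun h => by
    have hu : (Set.univ : Set X) ⊆ (I.support : Set X) := by
      rw [← (genericPoint_spec X).def]
      exact I.support.isClosed.closure_subset_iff.2 (Set.singleton_subset_iff.2 h)
    have h1 := (Homeomorph.Set.univ (X := X)).isHomeomorph.topologicalKrullDim_eq.ge.trans
      ((Topology.IsEmbedding.inclusion hu).isInducing.topologicalKrullDim_le.trans hI0)
    rw [hdim] at h1
    exact absurd h1 (by norm_num)
  refine ⟨?_, (CurveLib.finite_of_dim_le_zero I.support.isClosed hI0).subset hsub,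
    fun x hx => ?_, fun h => hη (hsub h)⟩
  · refine ShStabLib.isCoh_of_iso ((Abelian.imageIsoImage _) ≪≫ (imageSubobjectIso _).symm)
      (ShStabLib.isCoh_image' (ParSh.twistMap I V) ?_ hVc)
    exact CurveLib.isCoh_tmod hVc (RefOne.isCoh_idealMod I)
  · rw [← CurveLib.closure_singleton_eq I.support.isClosed hI0 (hsub hx)]
    exact isClosed_closure

include k hdim hD in
/-- All pieces along a divisor are coherent of full rank. -/
theorem piece_data {V : X.Modules} {n : ℕ} (hV : FlatMod.IsFinLocFreeOfRank n V) {P : Subobject V}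
    (hP : ParSh.twistSub I V ≤ P) : Coh.IsCoh (P : X.Modules) ∧ grk (P : X.Modules) = n := by
  haveI := EulerIneqLib.isNoetherian_proper (X := X) k
  have hVc := VBLib.isCoh_of_rank hV
  obtain ⟨hG, hfin, hcl, hη⟩ := twistSub_data k hdim hD hV
  have hPc := isCoh_of_between hVc hG hP hfin hcl
  obtain ⟨hC, h1, -⟩ := VBLib.coker_add k P.arrow hPc hVc
  have h0 : grk (cokernel P.arrow) = 0 := (grk_eq_zero_iff hC).2 fun h => hη (by
    haveI : Epi (cokernel.desc (ParSh.twistSub I V).arrow (cokernel.π P.arrow)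
        (by rw [← Subobject.ofLE_arrow hP, Category.assoc, cokernel.condition, Limits.comp_zero])) :=
      epi_of_epi_fac (cokernel.π_desc _ _ _)
    exact ShStabLib.support_subset_of_epi (cokernel.desc (ParSh.twistSub I V).arrow (cokernel.π P.arrow) _) h)
  exact ⟨hPc, by rw [grk_of_rank hV] at h1; omega⟩

include hdim hD in
/-- `χ(V) - χ(I · V)` depends only on the rank. -/
theorem eu_twistSub {V : X.Modules} {n : ℕ} (hV : FlatMod.IsFinLocFreeOfRank n V) :
    (Curv2.euler k X V : ℝ) - eu k (ParSh.twistSub I V) =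
      n * (Curv2.euler k X (cokernel (ParSh.twistSub I (Coh.structureModule X)).arrow) : ℝ) := by
  haveI := EulerIneqLib.isNoetherian_proper (X := X) k
  have hO : FlatMod.IsFinLocFreeOfRank 1 (Coh.structureModule X) :=
    CurveLib.isFinLocFreeOfRank_one ParaFLib.isInvertible_structureModule
  have hVc := VBLib.isCoh_of_rank hV
  obtain ⟨hG, -, -, -⟩ := twistSub_data k hdim hD hV
  obtain ⟨hGO, -, -, -⟩ := twistSub_data k hdim hD hO
  have hBV := (QCohLib.isCoh_kernel_cokernel (ParSh.twistSub I V).arrow hG hVc).2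
  have hBO := (QCohLib.isCoh_kernel_cokernel (ParSh.twistSub I (Coh.structureModule X)).arrow hGO
    (VBLib.isCoh_of_rank hO)).2
  have h := CurveLib.euler_shortExact (K := k) (DevLib.cokerSeq_shortExact (ParSh.twistSub I V).arrow) hG hVc hBV
  change Curv2.euler k X V = Curv2.euler k X ((ParSh.twistSub I V : Subobject V) : X.Modules) +
    Curv2.euler k X (cokernel (ParSh.twistSub I V).arrow) at h
  have h2 : Curv2.euler k X (cokernel (ParSh.twistSub I V).arrow) =
      n * Curv2.euler k X (cokernel (ParSh.twistSub I (Coh.structureModule X)).arrow) := by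
    refine CurveLib.euler_eq_mul (k := k) hBO hBV I.support.isClosed
      ((ParHilbLib.support_coker_twistSub I _).trans Set.inter_subset_right)
      (GPLib.dim_support (I := I) hdim.le hD) n fun x => ?_
    obtain ⟨e⟩ := CurveLib.freeAt_of_isFinLocFreeOfRank hV x
    let R := X.presheaf.stalk x
    let O := (Coh.structureModule X).presheaf.stalk x
    let J := IntMult.stalkIdeal I x
    let eO : V.presheaf.stalk x ≃ₗ[R] (Fin n → O) :=
      e.trans (LinearEquiv.piCongrRight fun _ => RefOne.oEquiv x)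
    let πO := stalkLin (cokernel.π (ParSh.twistSub I (Coh.structureModule X)).arrow) x
    have hπO : Function.Surjective πO := (epi_iff_stalk _).1 inferInstance x
    have hker : ∀ {M : X.Modules} (y : M.presheaf.stalk x),
        stalkLin (cokernel.π (ParSh.twistSub I M).arrow) x y = 0 ↔
          y ∈ J • (⊤ : Submodule R (M.presheaf.stalk x)) := fun {M} y => by
      rw [← rg_twistSub]
      exact (SyzLib.exact_stalkLin' (ShortComplex.mk (ParSh.twistSub I M).arrow
        (cokernel.π (ParSh.twistSub I M).arrow) (cokernel.condition _))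
        (ShortComplex.exact_of_g_is_cokernel _ (cokernelIsCokernel _)) x y).trans Iff.rfl
    let L : V.presheaf.stalk x →ₗ[R] (Fin n → (cokernel (ParSh.twistSub I (Coh.structureModule X)).arrow).presheaf.stalk x) :=
      (LinearMap.pi fun i => πO ∘ₗ LinearMap.proj i) ∘ₗ eO.toLinearMap
    have hL : Function.Surjective L := fun g => by
      choose f hf using fun i => hπO (g i)
      exact ⟨eO.symm f, funext fun i => (congrArg (fun w => πO (w i)) (eO.apply_symm_apply f)).trans (hf i)⟩
    have hLker : LinearMap.ker L = LinearMap.ker (stalkLin (cokernel.π (ParSh.twistSub I V).arrow) x) := by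
      ext z
      rw [LinearMap.mem_ker, LinearMap.mem_ker, hker]
      constructor
      · intro hz
        have hc : ∀ i, eO z i ∈ J • (⊤ : Submodule R O) := fun i => (hker _).1 (congrFun hz i)
        have hz2 : eO z ∈ J • (⊤ : Submodule R (Fin n → O)) := by
          rw [← Finset.univ_sum_single (eO z)]
          refine sum_mem fun i _ => ?_
          have := Submodule.mem_map_of_mem (f := LinearMap.single R (fun _ => O) i) (hc i)
          rw [Submodule.map_smul''] at this
          exact Submodule.smul_mono le_rfl le_top this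
        have := Submodule.mem_map_of_mem (f := eO.symm.toLinearMap) hz2
        rw [Submodule.map_smul''] at this
        simpa using Submodule.smul_mono le_rfl le_top this
      · intro hz
        have := Submodule.mem_map_of_mem (f := eO.toLinearMap) hz
        rw [Submodule.map_smul''] at this
        funext i
        refine (hker _).2 ?_
        have h3 := Submodule.mem_map_of_mem (f := (LinearMap.proj i : (Fin n → O) →ₗ[R] O)) this
        rw [Submodule.map_smul''] at h3
        exact Submodule.smul_mono le_rfl le_top h3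
    exact ⟨((LinearMap.quotKerEquivOfSurjective (stalkLin (cokernel.π (ParSh.twistSub I V).arrow) x)
      ((epi_iff_stalk _).1 inferInstance x)).symm.trans (Submodule.quotEquivOfEq _ _ hLker.symm)).trans
      (L.quotKerEquivOfSurjective hL)⟩
  rw [eu, h, h2]
  push_cast
  ring

include hdim hD in
/-- Comparison of parabolic degrees along a generically bijective parabolic map. -/
theorem parDeg_le {V V' : X.Modules} {n : ℕ} (hV : FlatMod.IsFinLocFreeOfRank n V)
    (hV' : FlatMod.IsFinLocFreeOfRank n V') (u : V ⟶ V') [Mono u] (𝒜 : ParSh.Str V) (ℬ : ParSh.Str V')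
    (hA : 𝒜.Along I) (hB : ℬ.Along I) (hu : ParSh.IsParHom 𝒜 ℬ u) :
    𝒜.parDeg k X n ≤ ℬ.parDeg k X n := by
  classical
  haveI := EulerIneqLib.isNoetherian_proper (X := X) k
  have hmono : ∀ a : ℝ, 0 ≤ a → a ≤ 1 → eu k (𝒜.at a) ≤ eu k (ℬ.at a) := by
    intro a h0 h1
    obtain ⟨hAc, hAr⟩ := piece_data k hdim hD hV ((hA.symm.le : ParSh.twistSub I V ≤ 𝒜.bot).trans (𝒜.bot_le_at a))
    obtain ⟨hBc, hBr⟩ := piece_data k hdim hD hV' ((hB.symm.le : ParSh.twistSub I V' ≤ ℬ.bot).trans (ℬ.bot_le_at a))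
    let g := (ℬ.at a).factorThru ((𝒜.at a).arrow ≫ u) (hu a h0 h1)
    haveI : Mono (g ≫ (ℬ.at a).arrow) := by rw [Subobject.factorThru_arrow]; exact mono_comp _ _
    haveI : Mono g := mono_of_mono g (ℬ.at a).arrow
    have hd := (VBLib.dg_le_of_mono k hdim.le g hAc hBc (hAr.trans hBr.symm)).1
    simp only [VBLib.dg, Curv2.deg, hAr, hBr] at hd
    exact (Int.cast_le (R := ℝ)).2 (by omega)
  have eA := eu_twistSub k hdim hD hV
  have eB := eu_twistSub k hdim hD hV'
  rw [← (show 𝒜.bot = ParSh.twistSub I V from hA)] at eA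
  rw [← (show ℬ.bot = ParSh.twistSub I V' from hB)] at eB
  let C : ℝ := eu k ℬ.bot - eu k 𝒜.bot
  let z : Option (Fin (ℬ.l + 1) ⊕ Fin (𝒜.l + 1)) → ℝ := fun i => Option.elim i 1 (Sum.elim ℬ.wt 𝒜.wt)
  let c : Option (Fin (ℬ.l + 1) ⊕ Fin (𝒜.l + 1)) → ℝ := fun i => Option.elim i C
    (Sum.elim (fun j => eu k (ℬ.piece j) - eu k (ℬ.pieceX j.succ))
      (fun j => -(eu k (𝒜.piece j) - eu k (𝒜.pieceX j.succ))))
  have hz : ∀ i ∈ (Finset.univ : Finset (Option (Fin (ℬ.l + 1) ⊕ Fin (𝒜.l + 1)))), 0 ≤ z i := by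
    rintro (_ | j | j) -
    · exact zero_le_one
    · exact ℬ.wt_nonneg.trans (ℬ.wt_strictMono.monotone (Fin.zero_le j))
    · exact 𝒜.wt_nonneg.trans (𝒜.wt_strictMono.monotone (Fin.zero_le j))
  have key := sum_mul_nonneg_of_tail Finset.univ z c hz fun a ha => by
    simp only [Fintype.sum_option, Fintype.sum_sum_type, z, c, Option.elim_none, Option.elim_some, Sum.elim_inl,
      Sum.elim_inr]
    by_cases h1 : a ≤ 1
    · have hA' : (∑ j : Fin (𝒜.l + 1), if a ≤ 𝒜.wt j then -(eu k (𝒜.piece j) - eu k (𝒜.pieceX j.succ)) else 0) =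
          -(eu k (𝒜.at a) - eu k 𝒜.bot) := by
        rw [← tail_eq k 𝒜 h1, ← Finset.sum_neg_distrib]
        exact Finset.sum_congr rfl fun j _ => by split_ifs <;> simp
      rw [if_pos h1, tail_eq k ℬ h1, hA']
      have := hmono a ha.le h1
      simp only [C]
      linarith
    · have hB1 : ∀ j, ¬ a ≤ ℬ.wt j := fun j h => h1 (h.trans
        ((ℬ.wt_strictMono.monotone (Fin.le_last j)).trans ℬ.wt_lt_one.le))
      have hA1 : ∀ j, ¬ a ≤ 𝒜.wt j := fun j h => h1 (h.trans
        ((𝒜.wt_strictMono.monotone (Fin.le_last j)).trans 𝒜.wt_lt_one.le))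
      simp [h1, hB1, hA1]
  simp only [Fintype.sum_option, Fintype.sum_sum_type, z, c, Option.elim_none, Option.elim_some, Sum.elim_inl,
    Sum.elim_inr, one_mul, C, mul_neg, Finset.sum_neg_distrib] at key
  simp only [ParSh.Str.parDeg, ParSh.Str.parWt, Curv2.deg, eu] at key eA eB ⊢
  push_cast
  linarith

include hdim hD in
/-- Additivity in parabolic extensions. -/
theorem parDeg_add {F E G : X.Modules} {a b c : ℕ} (hF : FlatMod.IsFinLocFreeOfRank a F)
    (hE : FlatMod.IsFinLocFreeOfRank b E) (hG : FlatMod.IsFinLocFreeOfRank c G)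
    (i : F ⟶ E) (p : E ⟶ G) [Epi p] (w : i ≫ p = 0) (hs : (ShortComplex.mk i p w).ShortExact) (hb : b = a + c)
    (𝓔 : ParSh.Str E) (hAl : 𝓔.Along I) :
    (𝓔.induced i).parDeg k X a + (𝓔.coinduced p).parDeg k X c = 𝓔.parDeg k X b := by
  haveI := EulerIneqLib.isNoetherian_proper (X := X) k
  haveI : Mono i := hs.mono_f
  have hFc := VBLib.isCoh_of_rank hF
  have hEc := VBLib.isCoh_of_rank hE
  have hGc := VBLib.isCoh_of_rank hG
  have hpiece : ∀ S : Subobject E, ParSh.twistSub I E ≤ S →
      eu k ((Subobject.pullback i).obj S) + eu k (imageSubobject (S.arrow ≫ p)) = eu k S := by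
    intro S hS
    have hSc := (piece_data k hdim hD hE hS).1
    have sq := Subobject.isPullback i S
    haveI : Mono (Subobject.pullbackπ i S) :=
      MorphismProperty.of_isPullback (P := MorphismProperty.monomorphisms _) sq.flip ‹Mono i›
    have w' : Subobject.pullbackπ i S ≫ factorThruImageSubobject (S.arrow ≫ p) = 0 := by
      rw [← cancel_mono (imageSubobject (S.arrow ≫ p)).arrow, Category.assoc, imageSubobject_arrow_comp,
        Limits.zero_comp, ← Category.assoc, sq.w, Category.assoc, w, Limits.comp_zero]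
    let hk : IsLimit (KernelFork.ofι (Subobject.pullbackπ i S) w') :=
      KernelFork.IsLimit.ofι' _ _ fun {Z} z hz => by
        have h1 : (z ≫ S.arrow) ≫ p = 0 := by
          rw [Category.assoc, ← imageSubobject_arrow_comp (S.arrow ≫ p), ← Category.assoc, hz, Limits.zero_comp]
        exact ⟨sq.lift z (hs.exact.lift (z ≫ S.arrow) h1) (hs.exact.lift_f _ _).symm, sq.lift_fst _ _ _⟩
    have hT : (ShortComplex.mk (Subobject.pullbackπ i S) (factorThruImageSubobject (S.arrow ≫ p)) w').ShortExact :=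
      ShortComplex.ShortExact.mk' (ShortComplex.exact_of_f_is_kernel _ hk) inferInstance inferInstance
    have hI : Coh.IsCoh (imageSubobject (S.arrow ≫ p) : X.Modules) :=
      ShStabLib.isCoh_of_iso ((Abelian.imageIsoImage (S.arrow ≫ p)) ≪≫ (imageSubobjectIso (S.arrow ≫ p)).symm)
        (ShStabLib.isCoh_image' _ hSc hGc)
    have hK : Coh.IsCoh ((Subobject.pullback i).obj S : X.Modules) :=
      ShStabLib.isCoh_of_iso ((kernelIsKernel (factorThruImageSubobject (S.arrow ≫ p))).conePointUniqueUpToIso hk)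
        (QCohLib.isCoh_kernel_cokernel _ hSc hI).1
    have h := CurveLib.euler_shortExact (K := k) hT hK hSc hI
    change Curv2.euler k X (S : X.Modules) = Curv2.euler k X ((Subobject.pullback i).obj S : X.Modules) +
      Curv2.euler k X (imageSubobject (S.arrow ≫ p) : X.Modules) at h
    have h2 := congrArg (Int.cast : ℤ → ℝ) h
    push_cast at h2
    exact h2.symm
  have hbot : ParSh.twistSub I E ≤ 𝓔.bot := hAl.symm.le
  have hX : ∀ j : Fin (𝓔.l + 2), eu k ((𝓔.induced i).pieceX j) + eu k ((𝓔.coinduced p).pieceX j) =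
      eu k (𝓔.pieceX j) := by
    intro j
    induction j using Fin.lastCases with
    | last =>
      exact ((congrArg₂ (fun A B => eu k A + eu k B) (𝓔.induced i).pieceX_last (𝓔.coinduced p).pieceX_last).trans
        (hpiece _ hbot)).trans (congrArg (eu k) 𝓔.pieceX_last.symm)
    | cast j =>
      exact ((congrArg₂ (fun A B => eu k A + eu k B) ((𝓔.induced i).pieceX_castSucc j)
        ((𝓔.coinduced p).pieceX_castSucc j)).trans
        (hpiece _ (hbot.trans (𝓔.bot_le j)))).trans (congrArg (eu k) (𝓔.pieceX_castSucc j).symm)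
  have hχ : (Curv2.euler k X E : ℝ) = Curv2.euler k X F + Curv2.euler k X G := by
    have h := CurveLib.euler_shortExact (K := k) hs hFc hEc hGc
    change Curv2.euler k X E = Curv2.euler k X F + Curv2.euler k X G at h
    exact_mod_cast h
  have hw : (𝓔.induced i).parWt k X + (𝓔.coinduced p).parWt k X = 𝓔.parWt k X := by
    simp only [ParSh.Str.parWt]
    show ∑ j : Fin (𝓔.l + 1), _ + ∑ j : Fin (𝓔.l + 1), _ = _
    rw [← Finset.sum_add_distrib]
    refine Finset.sum_congr rfl fun j _ => ?_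
    show 𝓔.wt j * _ + 𝓔.wt j * _ = _
    rw [← mul_add, sub_add_sub_comm]
    exact congrArg _ (congrArg₂ (· - ·) (hpiece _ (hbot.trans (𝓔.bot_le j))) (hX j.succ))
  simp only [ParSh.Str.parDeg, Curv2.deg]
  push_cast
  rw [hb]
  push_cast
  linarith

include k hdim in
/-- The saturation of a subsheaf of a bundle on the curve. -/
theorem exists_saturation_sub {F V : X.Modules} {r : ℕ} (hF : FlatMod.IsFinLocFreeOfRank r F) (j : V ⟶ F) [Mono j]
    (hVc : Coh.IsCoh V) :
    ∃ (S : X.Modules) (ι : S ⟶ F) (u : V ⟶ S), Mono ι ∧ Mono u ∧ u ≫ ι = j ∧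
      FlatMod.IsFinLocFreeOfRank (grk V) S ∧
      ∀ x : X, Module.Projective (X.presheaf.stalk x) ((cokernel ι).presheaf.stalk x) := by
  haveI := EulerIneqLib.isNoetherian_proper (X := X) k
  haveI : IsRegCurve X := isRegCurve_of_smooth (X := X) k hdim.le
  have hFc := VBLib.isCoh_of_rank hF
  have hCc := (QCohLib.isCoh_kernel_cokernel j hVc hFc).2
  obtain ⟨Q, q, hq, hQc, hQf, hQr, -⟩ := VBLib.exists_freeQuot k hdim.le hCc
  haveI := hq
  let ρ : F ⟶ Q := cokernel.π j ≫ q
  haveI : Epi ρ := epi_comp _ _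
  obtain ⟨hSc, hS1, -⟩ := VBLib.kernel_add k ρ hFc hQc
  obtain ⟨-, hj1, -⟩ := VBLib.coker_add k j hVc hFc
  have hSr := rank_of_mono (kernel.ι ρ) hSc hF
  have hrk : grk (kernel ρ) = grk V := by omega
  rw [hrk] at hSr
  have hj0 : j ≫ ρ = 0 := by
    show j ≫ cokernel.π j ≫ q = 0
    rw [cokernel.condition_assoc, Limits.zero_comp]
  let u : V ⟶ kernel ρ := kernel.lift ρ j hj0
  have hu : u ≫ kernel.ι ρ = j := kernel.lift_ι _ _ _
  haveI : Mono u := mono_of_mono_fac hu
  have hρs : (ShortComplex.mk (kernel.ι ρ) ρ (kernel.condition ρ)).ShortExact :=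
    ShortComplex.ShortExact.mk' (ShortComplex.exact_of_f_is_kernel _ (kernelIsKernel ρ)) inferInstance inferInstance
  haveI : Epi (ShortComplex.mk (kernel.ι ρ) ρ (kernel.condition ρ)).g := hρs.epi_g
  let eQ : cokernel (kernel.ι ρ) ≅ Q :=
    IsColimit.coconePointUniqueUpToIso (cokernelIsCokernel _) hρs.exact.gIsCokernel
  refine ⟨kernel ρ, kernel.ι ρ, u, inferInstance, inferInstance, hu, hSr, fun x => ?_⟩
  obtain ⟨e⟩ := CurveLib.freeAt_of_isFinLocFreeOfRank hQf x
  exact Module.Projective.of_equiv ((LinearEquiv.ofBijective (stalkLin eQ.hom x)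
    ((isIso_iff_stalk eQ.hom).1 inferInstance x)).trans e).symm

include k hdim in
/-- The image of an endomorphism through a proper quotient. -/
theorem exists_image_data {F F' F'' : X.Modules} {r : ℕ} (hF : FlatMod.IsFinLocFreeOfRank r F)
    (i : F' ⟶ F) (p : F ⟶ F'') [Epi p]
    (w : i ≫ p = 0) (hs : (ShortComplex.mk i p w).ShortExact) (hF'' : FlatMod.IsFinLocFree F'')
    (φ : F'' ⟶ F') (hne : φ ≠ 0) :
    ∃ (V : X.Modules) (π : F ⟶ V) (j : V ⟶ F), Mono j ∧ Epi π ∧ π ≫ j = p ≫ φ ≫ i ∧ Coh.IsCoh V ∧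
      FlatMod.IsFinLocFreeOfRank (grk V) V ∧ 0 < grk V ∧ grk V < r := by
  haveI := EulerIneqLib.isNoetherian_proper (X := X) k
  haveI : IsRegCurve X := isRegCurve_of_smooth (X := X) k hdim.le
  haveI : Mono i := hs.mono_f
  have hFc := VBLib.isCoh_of_rank hF
  have hF''c : Coh.IsCoh F'' := by
    obtain ⟨hQ, h⟩ := PullbackMod.isQCoh_and_isFP_of_isFinLocFree F'' hF''
    exact (QCohLib.isCoh_iff_isFP F'').2 h
  have hF'c : Coh.IsCoh F' :=
    ShStabLib.isCoh_of_iso (IsLimit.conePointUniqueUpToIso (kernelIsKernel p) hs.fIsKernel)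
      (QCohLib.isCoh_kernel_cokernel p hFc hF''c).1
  obtain ⟨V, π, j, hj, hπ, hfac, hVc, -, -, -⟩ := VBLib.exists_image k (p ≫ φ ≫ i) hFc hFc
  haveI := hj
  haveI := hπ
  have hs0 : 0 < grk V := Nat.pos_of_ne_zero fun h0 => hne (by
    have hz : p ≫ φ ≫ i = 0 := by rw [← hfac, (isZero_of_mono j hVc hF h0).eq_of_tgt π 0, Limits.zero_comp]
    rw [← cancel_epi p, ← cancel_mono i, Category.assoc, hz, Limits.comp_zero, Limits.zero_comp])
  have hjp : j ≫ p = 0 := by
    rw [← cancel_epi π, Limits.comp_zero, ← Category.assoc, hfac, Category.assoc, Category.assoc, w,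
      Limits.comp_zero, Limits.comp_zero]
  obtain ⟨l, hl⟩ : ∃ l : V ⟶ F', l ≫ i = j := ⟨hs.exact.lift j hjp, hs.exact.lift_f _ _⟩
  haveI : Mono l := mono_of_mono_fac hl
  obtain ⟨-, hl1, -⟩ := VBLib.coker_add k l hVc hF'c
  have hsplit : r = grk F' + grk F'' := (grk_of_rank hF).symm.trans (VBLib.grk_add hs hF'c hF''c)
  have hF''0 : 0 < grk F'' := Nat.pos_of_ne_zero fun h0 => hne (by
    obtain ⟨m, hm⟩ := Groth.Agent.KRRAmple.exists_isFinLocFreeOfRank hF''
    haveI := hF''c.1
    exact (VBLib.isZero_of_grk_zero hF''c (VBLib.isTF_of_rank hm) h0).eq_of_src φ 0)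
  exact ⟨V, π, j, hj, hπ, hfac, hVc, rank_of_mono j hVc hF, hs0, by omega⟩

include hdim hD in
/-- A stable parabolic bundle has no parabolic endomorphism factoring through a proper quotient and back. -/
theorem eq_zero_of_stable {F F' F'' : X.Modules} {r : ℕ} (hF : FlatMod.IsFinLocFreeOfRank r F)
    (𝓕 : ParSh.Str F) (h𝓕 : 𝓕.Along I) (hst : ParSh.IsParStable k X 𝓕 r) (i : F' ⟶ F) (p : F ⟶ F'') [Epi p]
    (w : i ≫ p = 0) (hs : (ShortComplex.mk i p w).ShortExact) (hF'' : FlatMod.IsFinLocFree F'')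
    (φ : F'' ⟶ F') (hφ : ParSh.IsParHom (𝓕.coinduced p) (𝓕.induced i) φ) : φ = 0 := by
  by_contra hne
  haveI := EulerIneqLib.isNoetherian_proper (X := X) k
  haveI : IsRegCurve X := isRegCurve_of_smooth (X := X) k hdim.le
  have hFc := VBLib.isCoh_of_rank hF
  obtain ⟨V, π, j, hj, hπ, hfac, hVc, hVr, hs0, hsr⟩ := exists_image_data k hdim hF i p w hs hF'' φ hne
  haveI := hj
  haveI := hπ
  obtain ⟨hKc, hK1, -⟩ := VBLib.kernel_add k π hFc hVc
  rw [grk_of_rank hF] at hK1
  have hKr : FlatMod.IsFinLocFreeOfRank (grk (kernel π)) (kernel π) := rank_of_mono (kernel.ι π) hKc hF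
  have hπs : (ShortComplex.mk (kernel.ι π) π (kernel.condition π)).ShortExact :=
    ShortComplex.ShortExact.mk' (ShortComplex.exact_of_f_is_kernel _ (kernelIsKernel π)) inferInstance hπ
  have hadd := parDeg_add k hdim hD hKr hF hVr (kernel.ι π) π (kernel.condition π) hπs hK1 𝓕 h𝓕
  obtain ⟨S, ι, u, hι, hu, huι, hSr, hsat⟩ := exists_saturation_sub k hdim hF j hVc
  haveI := hι
  haveI := hu
  have hfac' : π ≫ u ≫ ι = p ≫ φ ≫ i := by rw [huι, hfac]
  have hcmp := parDeg_le k hdim hD hVr hSr u _ _ (along_coinduced h𝓕 π) (along_induced h𝓕 ι hsat)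
    (isParHom_factor (isParHom_endo 𝓕 i p φ hφ) π u ι hfac')
  have h1 := hst (kernel π) (grk (kernel π)) (kernel.ι π) inferInstance (by omega) (by omega) hKr
  have h2 := hst S (grk V) ι hι hs0 hsr hSr
  have hr : (r : ℝ) = grk (kernel π) + grk V := by exact_mod_cast hK1
  have h3 := congrArg (fun t : ℝ => t * (r : ℝ)) hadd
  simp only [add_mul] at h3
  have h4 := mul_le_mul_of_nonneg_right hcmp (Nat.cast_nonneg (α := ℝ) r)
  rw [hr] at h1 h2 h3 h4
  nlinarith

end Groth.Agent.ParCurve
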