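import Groth.Agent.ParCurveLib.SubStalk
import Groth.Agent.ParCurveLib.Main
import Groth.Agent.ParHilbLib.One
import Groth.Agent.ShStabLib.Saturation

/-!
# Kernels and images of maps of semistable parabolic sheaves
-/

set_option autoImplicit false
set_option backward.isDefEq.respectTransparency false
set_option linter.style.haveILetI false
set_option linter.unusedSectionVars false
set_option maxHeartbeats 1000000
set_option synthInstance.maxHeartbeats 200000

universe u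

open CategoryTheory CategoryTheory.Limits AlgebraicGeometry TopologicalSpace Polynomial
open Groth.Agent.PullbackMod Groth.Agent.DCohLib StabCat

noncomputable section

namespace Groth.Agent.ParCurve

variable {X : Scheme.{u}}

/-- Abel summation for the parabolic polynomial. -/
theorem parPoly_abel {E : X.Modules} (𝓔 : ParSh.Str E) (PX : Fin (𝓔.l + 2) → ℚ[X]) :
    W4swparbununimod.parPoly 𝓔 PX = C (𝓔.wt 0) * W4swparbununimod.rpoly (PX 0) +
      ∑ j : Fin (𝓔.l + 1), C (𝓔.wtX j.succ - 𝓔.wtX j.castSucc) * W4swparbununimod.rpoly (PX j.succ) := by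
  ext n
  have t := ParHilbLib.sum_telescope fun j => 𝓔.wtX j * ((W4swparbununimod.rpoly (PX j)).coeff n)
  have hw0 : 𝓔.wtX 0 = 𝓔.wt 0 := 𝓔.wtX_castSucc 0
  rw [ParSh.Str.wtX_last, one_mul, hw0] at t
  simp only [W4swparbununimod.parPoly, coeff_add, finsetSum_coeff, coeff_C_mul, coeff_sub,
    ParSh.Str.wtX_castSucc, sub_mul, mul_sub, Finset.sum_sub_distrib] at t ⊢
  linarith

/-- Nonzero weight gaps. -/
theorem wtX_lt_succ {E : X.Modules} (𝓔 : ParSh.Str E) (j : Fin (𝓔.l + 1)) : 𝓔.wtX j.castSucc < 𝓔.wtX j.succ := by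
  induction j using Fin.lastCases with
  | last => rw [ParSh.Str.wtX_castSucc, Fin.succ_last, ParSh.Str.wtX_last]; exact 𝓔.wt_lt_one
  | cast i =>
    rw [ParSh.Str.wtX_castSucc, Fin.succ_castSucc, ParSh.Str.wtX_castSucc]
    exact 𝓔.wt_strictMono (Fin.castSucc_lt_succ)

/-- Equal weight sets: the same length and the same weights. -/
theorem weights_eq {l l' : ℕ} {w : Fin (l + 1) → ℝ} {w' : Fin (l' + 1) → ℝ} (h : StrictMono w) (h' : StrictMono w')
    (hr : Set.range w' = Set.range w) : l' = l := by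
  have h1 := Set.ncard_range_of_injective h.injective
  have h2 := Set.ncard_range_of_injective h'.injective
  rw [Nat.card_fin] at h1 h2
  rw [hr, h1] at h2
  omega

variable (k : Type u) [Field k] [X.Over (Spec (CommRingCat.of k))] [IsProper (X ↘ Spec (CommRingCat.of k))]
  {L : X.Modules} (hL : CohB1.IsAmple L)

include hL in
/-- The pieces of the induced and of the coinduced structures add up. -/
theorem pieces_add {F E G : X.Modules} (hF : Coh.IsCoh F) (hE : Coh.IsCoh E) (hG : Coh.IsCoh G)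
    (i : F ⟶ E) (p : E ⟶ G) (w : i ≫ p = 0) (hs : (ShortComplex.mk i p w).ShortExact) (S : Subobject E)
    (hS : Coh.IsCoh (S : X.Modules)) {A B P : ℚ[X]}
    (hA : ShStab.IsHilbPoly k X L ((Subobject.pullback i).obj S : X.Modules) A)
    (hB : ShStab.IsHilbPoly k X L (imageSubobject (S.arrow ≫ p) : X.Modules) B)
    (hP : ShStab.IsHilbPoly k X L (S : X.Modules) P) :
    P = A + B ∧ Coh.IsCoh (imageSubobject (S.arrow ≫ p) : X.Modules) := by
  haveI := EulerIneqLib.isNoetherian_proper (X := X) k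
  haveI : Mono i := hs.mono_f
  have sq := Subobject.isPullback i S
  haveI : Mono (Subobject.pullbackπ i S) :=
    MorphismProperty.of_isPullback (P := MorphismProperty.monomorphisms _) sq.flip ‹Mono i›
  have w' : Subobject.pullbackπ i S ≫ factorThruImageSubobject (S.arrow ≫ p) = 0 := by
    rw [← cancel_mono (imageSubobject (S.arrow ≫ p)).arrow, Category.assoc, imageSubobject_arrow_comp,
      Limits.zero_comp, ← Category.assoc, sq.w, Category.assoc, w, Limits.comp_zero]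
  let hk : IsLimit (KernelFork.ofι (Subobject.pullbackπ i S) w') :=
    KernelFork.IsLimit.ofι' _ _ fun {Z} z hz => by
      have h1 : (z ≫ S.arrow) ≫ p = 0 := by
        rw [Category.assoc, ← imageSubobject_arrow_comp (S.arrow ≫ p), ← Category.assoc, hz, Limits.zero_comp]
      exact ⟨sq.lift z (hs.exact.lift (z ≫ S.arrow) h1) (hs.exact.lift_f _ _).symm, sq.lift_fst _ _ _⟩
  have hT : (ShortComplex.mk (Subobject.pullbackπ i S) (factorThruImageSubobject (S.arrow ≫ p)) w').ShortExact :=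
    ShortComplex.ShortExact.mk' (ShortComplex.exact_of_f_is_kernel _ hk) inferInstance inferInstance
  have hI : Coh.IsCoh (imageSubobject (S.arrow ≫ p) : X.Modules) :=
    ShStabLib.isCoh_of_iso ((Abelian.imageIsoImage (S.arrow ≫ p)) ≪≫ (imageSubobjectIso (S.arrow ≫ p)).symm)
      (ShStabLib.isCoh_image' _ hS hG)
  have hK : Coh.IsCoh ((Subobject.pullback i).obj S : X.Modules) :=
    ShStabLib.isCoh_of_iso ((kernelIsKernel (factorThruImageSubobject (S.arrow ≫ p))).conePointUniqueUpToIso hk)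
      (QCohLib.isCoh_kernel_cokernel _ hS hI).1
  exact ⟨ShStabLib.hp_add k hL hT hK hS hI hA hP hB, hI⟩

/-- Equal real polynomials from eventual equality at the naturals. -/
theorem eq_of_eventually {p q : ℝ[X]} (h : ∀ᶠ m : ℕ in Filter.atTop, p.eval (m : ℝ) = q.eval (m : ℝ)) : p = q := by
  obtain ⟨N, hN⟩ := Filter.eventually_atTop.1 h
  refine Polynomial.eq_of_infinite_eval_eq _ _ (Set.Infinite.mono ?_ (Set.infinite_range_of_injective
    (f := fun m : ℕ => ((m + N : ℕ) : ℝ)) fun a b hab => by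
      have := Nat.cast_injective hab
      omega))
  rintro _ ⟨m, rfl⟩
  exact hN _ (Nat.le_add_left N m)

include hL in
/-- The main comparison. -/
theorem kerImage {I : X.IdealSheafData} {d : ℕ} {E F : X.Modules} (hE : Coh.IsCoh E) (hF : Coh.IsCoh F)
    (hE0 : ¬ IsZero E) (hF0 : ¬ IsZero F) (hEp : ShStab.IsPure X E d) (hFp : ShStab.IsPure X F d)
    (hEs : topologicalKrullDim ↥(CohB1.support E ∩ (I.support : Set X)) < (d : WithBot ℕ∞))
    (hFs : topologicalKrullDim ↥(CohB1.support F ∩ (I.support : Set X)) < (d : WithBot ℕ∞))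
    (𝓔 : ParSh.Str E) (h𝓔 : 𝓔.Along I) (𝓕 : ParSh.Str F) (h𝓕 : 𝓕.Along I)
    (hcE : ∀ j, Coh.IsCoh ((𝓔.pieceX j : Subobject E) : X.Modules))
    (hcF : ∀ j, Coh.IsCoh ((𝓕.pieceX j : Subobject F) : X.Modules))
    (hw : Set.range 𝓕.wt = Set.range 𝓔.wt) (hw0 : 0 < 𝓔.wt 0)
    (P R : ℚ[X]) (hP : ShStab.IsHilbPoly k X L E P) (hR : ShStab.IsHilbPoly k X L F R)
    (PX : Fin (𝓔.l + 2) → ℚ[X]) (hPX : ∀ j, ShStab.IsHilbPoly k X L ((𝓔.pieceX j : Subobject E) : X.Modules) (PX j))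
    (RX : Fin (𝓕.l + 2) → ℚ[X]) (hRX : ∀ j, ShStab.IsHilbPoly k X L ((𝓕.pieceX j : Subobject F) : X.Modules) (RX j))
    (hssE : ∀ (W : X.Modules) (ι : W ⟶ E), Mono ι → Coh.IsCoh W → ¬ IsZero W → ShStab.IsPure X (cokernel ι) d →
        ∀ (Q : ℚ[X]) (QX : Fin (𝓔.l + 2) → ℚ[X]), ShStab.IsHilbPoly k X L W Q →
          (∀ j, ShStab.IsHilbPoly k X L (((𝓔.induced ι).pieceX j : Subobject W) : X.Modules) (QX j)) →
          ∃ M : ℕ, ∀ m : ℕ, M ≤ m →
            (W4swparbununimod.parPoly (𝓔.induced ι) QX).eval (m : ℝ) * (alpha d P : ℝ) ≤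
              (W4swparbununimod.parPoly 𝓔 PX).eval (m : ℝ) * (alpha d Q : ℝ))
    (hssF : ∀ (W : X.Modules) (ι : W ⟶ F), Mono ι → Coh.IsCoh W → ¬ IsZero W → ShStab.IsPure X (cokernel ι) d →
        ∀ (Q : ℚ[X]) (QX : Fin (𝓕.l + 2) → ℚ[X]), ShStab.IsHilbPoly k X L W Q →
          (∀ j, ShStab.IsHilbPoly k X L (((𝓕.induced ι).pieceX j : Subobject W) : X.Modules) (QX j)) →
          ∃ M : ℕ, ∀ m : ℕ, M ≤ m →
            (W4swparbununimod.parPoly (𝓕.induced ι) QX).eval (m : ℝ) * (alpha d R : ℝ) ≤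
              (W4swparbununimod.parPoly 𝓕 RX).eval (m : ℝ) * (alpha d Q : ℝ))
    (hred : W4swparbununimod.parPoly 𝓔 PX * C (alpha d R : ℝ) = W4swparbununimod.parPoly 𝓕 RX * C (alpha d P : ℝ))
    (f : E ⟶ F) (hf : ParSh.IsParHom 𝓔 𝓕 f)
    {K V : X.Modules} (j : K ⟶ E) [Mono j] (q : E ⟶ V) [Epi q] (u : V ⟶ F) [Mono u] (hqu : q ≫ u = f)
    (w : j ≫ q = 0) (hs : (ShortComplex.mk j q w).ShortExact) :
    (∀ (QK : ℚ[X]) (QKX : Fin (𝓔.l + 2) → ℚ[X]), ShStab.IsHilbPoly k X L K QK →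
        (∀ j', ShStab.IsHilbPoly k X L (((𝓔.induced j).pieceX j' : Subobject K) : X.Modules) (QKX j')) →
        W4swparbununimod.parPoly (𝓔.induced j) QKX * C (alpha d P : ℝ) =
          W4swparbununimod.parPoly 𝓔 PX * C (alpha d QK : ℝ)) ∧
    ShStab.IsPure X (cokernel u) d ∧
    (∀ a : ℝ, 0 ≤ a → a ≤ 1 → (𝓔.coinduced q).at a = (𝓕.induced u).at a) := by
  classical
  haveI := EulerIneqLib.isNoetherian_proper (X := X) k
  obtain ⟨l', pF, bF, wF, f0, fanti, fbot, fmono, fnn, flt⟩ := 𝓕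
  obtain rfl : l' = 𝓔.l := weights_eq 𝓔.wt_strictMono fmono hw
  obtain rfl : wF = 𝓔.wt := (StrictMono.range_inj fmono 𝓔.wt_strictMono).1 hw
  let 𝓕 : ParSh.Str F := ⟨𝓔.l, pF, bF, 𝓔.wt, f0, fanti, fbot, fmono, fnn, flt⟩
  have hdE := ShStabLib.dimLE_of_isPure hE hEp
  have hdF := ShStabLib.dimLE_of_isPure hF hFp
  have hjf : j ≫ f = 0 := by rw [← hqu, ← Category.assoc, w, Limits.zero_comp]
  let hl : IsLimit (KernelFork.ofι j hjf) := KernelFork.IsLimit.ofι' j hjf fun {Z} z hz =>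
    ⟨hs.exact.lift z (by rw [← cancel_mono u, Category.assoc, hqu, hz, Limits.zero_comp]), hs.exact.lift_f _ _⟩
  let eK : kernel f ≅ K := (kernelIsKernel f).conePointUniqueUpToIso hl
  let eV : cokernel j ≅ V := IsColimit.coconePointUniqueUpToIso (cokernelIsCokernel j) hs.gIsCokernel
  have hVc : Coh.IsCoh V := ShStabLib.isCoh_of_iso eV
    (QCohLib.isCoh_kernel_cokernel j (ShStabLib.isCoh_of_iso eK (QCohLib.isCoh_kernel_cokernel f hE hF).1) hE).2
  have hKc : Coh.IsCoh K := ShStabLib.isCoh_of_iso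
    (IsLimit.conePointUniqueUpToIso (kernelIsKernel q) hs.fIsKernel) (QCohLib.isCoh_kernel_cokernel q hE hVc).1
  obtain ⟨QV, -, hQV⟩ := ShStabLib.exists_hp k hL hVc (ShStabLib.dimLE_of_mono hdF u)
  obtain ⟨W, ι, r, QW, hι, hr, hWc, hQW, hsat, hαW, -⟩ := ShStabLib.exists_saturation k hL hF hFp u hVc hQV
  haveI := hι
  haveI : Mono r := mono_of_mono_fac hr
  obtain ⟨WX, hWX⟩ := ParHilbLib.exists_hp_pieces k hL hF 𝓕 hcF ι hWc (ShStabLib.dimLE_of_mono hdF ι)
  obtain ⟨QK₀, -, hQK₀⟩ := ShStabLib.exists_hp k hL hKc (ShStabLib.dimLE_of_mono hdE j)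
  obtain ⟨KX₀, hKX₀⟩ := ParHilbLib.exists_hp_pieces k hL hE 𝓔 hcE j hKc (ShStabLib.dimLE_of_mono hdE j)
  have hsE := ParHilbLib.small_of_along I 𝓔 h𝓔 hEs
  have hsF := ParHilbLib.small_of_along I 𝓕 h𝓕 hFs
  -- the images of the pieces
  have hA : ∀ i : Fin (𝓔.l + 2), Coh.IsCoh (imageSubobject ((𝓔.pieceX i).arrow ≫ q) : X.Modules) := fun i =>
    ShStabLib.isCoh_of_iso ((Abelian.imageIsoImage _) ≪≫ (imageSubobjectIso _).symm)
      (ShStabLib.isCoh_image' _ (hcE i) hVc)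
  choose AX _ hAX using fun i => ShStabLib.exists_hp k hL (hA i)
    (ShStabLib.dimLE_of_mono (ShStabLib.dimLE_of_mono hdF u) (imageSubobject ((𝓔.pieceX i).arrow ≫ q)).arrow)
  have hadd : ∀ i, PX i = KX₀ i + AX i := fun i => by
    have h1 := hKX₀ i
    rw [ParHilbLib.pieceX_induced] at h1
    exact (pieces_add k hL hKc hE hVc j q w hs _ (hcE i) h1 (hAX i) (hPX i)).1
  have hαP : alpha d P = alpha d QK₀ + alpha d QV := by
    rw [ShStabLib.hp_add k hL hs hKc hE hVc hQK₀ hP hQV, ShStabLib.alpha_add]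
  have hαP0 : (0 : ℝ) < (alpha d P : ℝ) := by
    exact_mod_cast ShStabLib.alpha_pos_of_isPure k hL hE hE0 hEp hP
  have hαR0 : (0 : ℝ) < (alpha d R : ℝ) := by
    exact_mod_cast ShStabLib.alpha_pos_of_isPure k hL hF hF0 hFp hR
  -- the pieces map into the saturation
  have hfa : ∀ (i : Fin (𝓔.l + 2)) (x : X),
      (rg (𝓔.pieceX i) x).map (stalkLin f x) ≤ rg (𝓕.pieceX i) x := by
    intro i x
    have key : ∀ a : ℝ, 0 ≤ a → a ≤ 1 → (rg (𝓔.at a) x).map (stalkLin f x) ≤ rg (𝓕.at a) x := fun a h0 h1 => by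
      have h := (factors_iff _ _).1 (hf a h0 h1) x
      rwa [stalkLin_comp, LinearMap.range_comp] at h
    induction i using Fin.lastCases with
    | last =>
      rw [ParSh.Str.pieceX_last, show 𝓕.pieceX (Fin.last _) = 𝓕.bot from 𝓕.pieceX_last]
      have hlt : ∀ i, 𝓔.wt i < 1 := fun i => lt_of_le_of_lt (𝓔.wt_strictMono.monotone (Fin.le_last i)) 𝓔.wt_lt_one
      have := key 1 zero_le_one le_rfl
      rwa [𝓔.at_eq_bot hlt, 𝓕.at_eq_bot hlt] at this
    | cast i =>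
      rw [ParSh.Str.pieceX_castSucc, show 𝓕.pieceX i.castSucc = 𝓕.piece i from 𝓕.pieceX_castSucc i]
      have := key (𝓔.wt i) (𝓔.wt_nonneg.trans (𝓔.wt_strictMono.monotone (Fin.zero_le i)))
        ((𝓔.wt_strictMono.monotone (Fin.le_last i)).trans 𝓔.wt_lt_one.le)
      rwa [𝓔.at_eq_piece i le_rfl fun i' h => 𝓔.wt_strictMono h,
        𝓕.at_eq_piece i le_rfl fun i' h => 𝓔.wt_strictMono h] at this
  have hB : ∀ i : Fin (𝓔.l + 2), Coh.IsCoh (((𝓕.induced ι).pieceX i : Subobject W) : X.Modules) :=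
    ParHilbLib.isCoh_induced k ι 𝓕 hWc hF hcF
  have hmap : ∀ (i : Fin (𝓔.l + 2)) (x : X),
      (rg (imageSubobject ((𝓔.pieceX i).arrow ≫ q)) x).map (stalkLin r x) ≤ rg ((𝓕.induced ι).pieceX i) x := by
    intro i x
    rw [ParHilbLib.pieceX_induced, rg_pullback, rg_image_comp, Submodule.map_le_iff_le_comap,
      Submodule.map_le_iff_le_comap]
    intro z hz
    refine Submodule.mem_comap.2 (Submodule.mem_comap.2 (Submodule.mem_comap.2 ?_))
    rw [← LinearMap.comp_apply (stalkLin ι x), ← stalkLin_comp, hr, ← LinearMap.comp_apply, ← stalkLin_comp, hqu]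
    exact hfa i x ⟨z, hz, rfl⟩
  have hfac : ∀ i, ((𝓕.induced ι).pieceX i).Factors ((imageSubobject ((𝓔.pieceX i).arrow ≫ q)).arrow ≫ r) :=
    fun i => (factors_iff _ _).2 fun x => by
      rw [stalkLin_comp, LinearMap.range_comp]
      exact hmap i x
  let g : ∀ i : Fin (𝓔.l + 2),
      (imageSubobject ((𝓔.pieceX i).arrow ≫ q) : X.Modules) ⟶ (((𝓕.induced ι).pieceX i : Subobject W) : X.Modules) :=
    fun i => Subobject.factorThru _ _ (hfac i)
  have hg : ∀ i, Mono (g i) := fun i => by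
    haveI : Mono (g i ≫ ((𝓕.induced ι).pieceX i).arrow) := by
      rw [Subobject.factorThru_arrow]; exact mono_comp _ _
    exact mono_of_mono (g i) ((𝓕.induced ι).pieceX i).arrow
  have hle : ∀ i, PolyLE (AX i) (WX i) := fun i => by
    haveI := hg i
    exact (ShStabLib.polyLE_and_alpha_eq (d := d) k hL (hA i) (hB i) (g i) (hAX i) (hWX i)).1
  -- the two semistability inequalities
  have hPE : W4swparbununimod.parPoly 𝓔 PX = W4swparbununimod.parPoly (𝓔.induced j) KX₀ +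
      W4swparbununimod.parPoly (𝓔.coinduced q) AX := by
    rw [parPoly_abel, parPoly_abel, parPoly_abel]
    show C (𝓔.wt 0) * _ + ∑ i : Fin (𝓔.l + 1), C (𝓔.wtX i.succ - 𝓔.wtX i.castSucc) * _ =
      (C (𝓔.wt 0) * W4swparbununimod.rpoly (KX₀ 0) +
        ∑ i : Fin (𝓔.l + 1), C (𝓔.wtX i.succ - 𝓔.wtX i.castSucc) * W4swparbununimod.rpoly (KX₀ i.succ)) +
      (C (𝓔.wt 0) * W4swparbununimod.rpoly (AX 0) +
        ∑ i : Fin (𝓔.l + 1), C (𝓔.wtX i.succ - 𝓔.wtX i.castSucc) * W4swparbununimod.rpoly (AX i.succ))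
    simp only [hadd, W4swparbununimod.rpoly, Polynomial.map_add, mul_add, Finset.sum_add_distrib]
    ring
  have hzero : ∀ {M : X.Modules} {Q : ℚ[X]}, IsZero M → ShStab.IsHilbPoly k X L M Q → Q = 0 := fun hM hQ =>
    ShStabLib.hp_unique k hQ fun m => by rw [eval_zero]; exact HilbLib.chi_isZero k hL.1 hM m
  have h1 : ∀ᶠ m : ℕ in Filter.atTop, (W4swparbununimod.parPoly (𝓔.induced j) KX₀).eval (m : ℝ) * (alpha d P : ℝ) ≤
      (W4swparbununimod.parPoly 𝓔 PX).eval (m : ℝ) * (alpha d QK₀ : ℝ) := by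
    by_cases hK0 : IsZero K
    · have hz : ∀ i, KX₀ i = 0 := fun i => hzero (IsZero.of_mono ((𝓔.induced j).pieceX i).arrow hK0) (hKX₀ i)
      refine Filter.Eventually.of_forall fun m => le_of_eq ?_
      rw [parPoly_abel, hzero hK0 hQK₀]
      simp [hz, W4swparbununimod.rpoly, ShStabLib.alpha_zero, eval_finsetSum]
    · have hpure : ShStab.IsPure X (cokernel j) d := by
        haveI : Mono ((IsColimit.coconePointUniqueUpToIso (cokernelIsCokernel j) hs.gIsCokernel).hom ≫ u) :=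
          mono_comp _ _
        exact ShStabLib.isPure_of_mono hFp
          ((IsColimit.coconePointUniqueUpToIso (cokernelIsCokernel j) hs.gIsCokernel).hom ≫ u)
      obtain ⟨M, hM⟩ := hssE K j inferInstance hKc hK0 hpure QK₀ KX₀ hQK₀ hKX₀
      exact Filter.eventually_atTop.2 ⟨M, hM⟩
  have h2 : ∀ᶠ m : ℕ in Filter.atTop, (W4swparbununimod.parPoly (𝓕.induced ι) WX).eval (m : ℝ) * (alpha d R : ℝ) ≤
      (W4swparbununimod.parPoly 𝓕 RX).eval (m : ℝ) * (alpha d QV : ℝ) := by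
    by_cases hW0 : IsZero W
    · have hz : ∀ i, WX i = 0 := fun i => hzero (IsZero.of_mono ((𝓕.induced ι).pieceX i).arrow hW0) (hWX i)
      refine Filter.Eventually.of_forall fun m => le_of_eq ?_
      rw [parPoly_abel, ← hαW, hzero hW0 hQW]
      simp [hz, W4swparbununimod.rpoly, ShStabLib.alpha_zero, eval_finsetSum]
    · obtain ⟨M, hM⟩ := hssF W ι hι hWc hW0 hsat QW WX hQW hWX
      rw [hαW] at hM
      exact Filter.eventually_atTop.2 ⟨M, hM⟩
  have hgap : ∀ i : Fin (𝓔.l + 1), 0 < 𝓔.wtX i.succ - 𝓔.wtX i.castSucc := fun i => sub_pos.2 (wtX_lt_succ 𝓔 i)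
  have h3 : ∀ᶠ m : ℕ in Filter.atTop, ∀ i, (AX i).eval (m : ℚ) ≤ (WX i).eval (m : ℚ) :=
    Filter.eventually_all.2 fun i => Filter.eventually_atTop.2 (hle i)
  have hall : ∀ᶠ m : ℕ in Filter.atTop, (∀ i, (AX i).eval (m : ℚ) = (WX i).eval (m : ℚ)) ∧
      (W4swparbununimod.parPoly (𝓔.induced j) KX₀).eval (m : ℝ) * (alpha d P : ℝ) =
        (W4swparbununimod.parPoly 𝓔 PX).eval (m : ℝ) * (alpha d QK₀ : ℝ) := by
    filter_upwards [h1, h2, h3] with m hm1 hm2 hm3
    have hr' : (W4swparbununimod.parPoly 𝓔 PX * C (alpha d R : ℝ)).eval (m : ℝ) =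
        (W4swparbununimod.parPoly 𝓕 RX * C (alpha d P : ℝ)).eval (m : ℝ) := congrArg (Polynomial.eval (m : ℝ)) hred
    rw [eval_mul, eval_mul, eval_C, eval_C] at hr'
    have he := congrArg (Polynomial.eval (m : ℝ)) hPE
    rw [eval_add] at he
    have hα : (alpha d P : ℝ) = (alpha d QK₀ : ℝ) + (alpha d QV : ℝ) := by exact_mod_cast hαP
    set E₀ := (W4swparbununimod.parPoly 𝓔 PX).eval (m : ℝ)
    set K₀ := (W4swparbununimod.parPoly (𝓔.induced j) KX₀).eval (m : ℝ)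
    set A₀ := (W4swparbununimod.parPoly (𝓔.coinduced q) AX).eval (m : ℝ) with hA₀
    set W₀ := (W4swparbununimod.parPoly (𝓕.induced ι) WX).eval (m : ℝ) with hW₀
    have hW : W₀ * (alpha d P : ℝ) ≤ E₀ * (alpha d QV : ℝ) := by
      refine le_of_mul_le_mul_right ?_ hαR0
      calc W₀ * (alpha d P : ℝ) * (alpha d R : ℝ) = W₀ * (alpha d R : ℝ) * (alpha d P : ℝ) := by ring
        _ ≤ (W4swparbununimod.parPoly 𝓕 RX).eval (m : ℝ) * (alpha d QV : ℝ) * (alpha d P : ℝ) :=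
            mul_le_mul_of_nonneg_right hm2 hαP0.le
        _ = E₀ * (alpha d QV : ℝ) * (alpha d R : ℝ) := by linear_combination -(alpha d QV : ℝ) * hr'
    have e1 : E₀ * (alpha d P : ℝ) = K₀ * (alpha d P : ℝ) + A₀ * (alpha d P : ℝ) := by rw [he]; ring
    have e2 : E₀ * (alpha d P : ℝ) = E₀ * (alpha d QK₀ : ℝ) + E₀ * (alpha d QV : ℝ) := by rw [hα]; ring
    have hWA : W₀ ≤ A₀ := by
      refine le_of_mul_le_mul_right ?_ hαP0
      linarith
    have hdiff : W₀ - A₀ = 𝓔.wt 0 * ((((WX 0).eval (m : ℚ) : ℚ) : ℝ) - (((AX 0).eval (m : ℚ) : ℚ) : ℝ)) +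
        ∑ i : Fin (𝓔.l + 1), (𝓔.wtX i.succ - 𝓔.wtX i.castSucc) *
          ((((WX i.succ).eval (m : ℚ) : ℚ) : ℝ) - (((AX i.succ).eval (m : ℚ) : ℚ) : ℝ)) := by
      rw [hA₀, hW₀, parPoly_abel, parPoly_abel]
      simp only [eval_add, eval_mul, eval_C, eval_finsetSum, ParHilbLib.eval_rpoly, mul_sub, Finset.sum_sub_distrib]
      show 𝓔.wt 0 * _ + ∑ i : Fin (𝓔.l + 1), (𝓔.wtX i.succ - 𝓔.wtX i.castSucc) * _ -
        (𝓔.wt 0 * _ + ∑ i : Fin (𝓔.l + 1), (𝓔.wtX i.succ - 𝓔.wtX i.castSucc) * _) = _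
      ring
    have hnn : ∀ i, (0 : ℝ) ≤ (((WX i).eval (m : ℚ) : ℚ) : ℝ) - (((AX i).eval (m : ℚ) : ℚ) : ℝ) := fun i =>
      sub_nonneg.2 (Rat.cast_le.2 (hm3 i))
    have hs0 : 0 ≤ ∑ i : Fin (𝓔.l + 1), (𝓔.wtX i.succ - 𝓔.wtX i.castSucc) *
        ((((WX i.succ).eval (m : ℚ) : ℚ) : ℝ) - (((AX i.succ).eval (m : ℚ) : ℚ) : ℝ)) :=
      Finset.sum_nonneg fun i _ => mul_nonneg (hgap i).le (hnn _)
    have h00 : 0 ≤ 𝓔.wt 0 * ((((WX 0).eval (m : ℚ) : ℚ) : ℝ) - (((AX 0).eval (m : ℚ) : ℚ) : ℝ)) :=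
      mul_nonneg hw0.le (hnn 0)
    refine ⟨fun i => ?_, le_antisymm hm1 ?_⟩
    · induction i using Fin.cases with
      | zero =>
        have : 𝓔.wt 0 * ((((WX 0).eval (m : ℚ) : ℚ) : ℝ) - (((AX 0).eval (m : ℚ) : ℚ) : ℝ)) = 0 := by linarith
        have := (mul_eq_zero.1 this).resolve_left hw0.ne'
        exact (Rat.cast_injective (sub_eq_zero.1 this)).symm
      | succ i =>
        have hsum : ∑ i : Fin (𝓔.l + 1), (𝓔.wtX i.succ - 𝓔.wtX i.castSucc) *
            ((((WX i.succ).eval (m : ℚ) : ℚ) : ℝ) - (((AX i.succ).eval (m : ℚ) : ℚ) : ℝ)) = 0 := by linarith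
        have := (Finset.sum_eq_zero_iff_of_nonneg fun i _ => mul_nonneg (hgap i).le (hnn _)).1 hsum i (Finset.mem_univ _)
        have := (mul_eq_zero.1 this).resolve_left (hgap i).ne'
        exact (Rat.cast_injective (sub_eq_zero.1 this)).symm
    · have hW' : W₀ = A₀ := le_antisymm hWA (by linarith)
      rw [hW'] at hW
      linarith
  have heq : ∀ i, AX i = WX i := fun i => by
    obtain ⟨N, hN⟩ := Filter.eventually_atTop.1 hall
    refine Polynomial.eq_of_infinite_eval_eq _ _ (Set.Infinite.mono ?_ (Set.infinite_range_of_injective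
      (f := fun m : ℕ => ((m + N : ℕ) : ℚ)) fun a b hab => by
        have := Nat.cast_injective hab
        omega))
    rintro _ ⟨m, rfl⟩
    exact (hN _ (Nat.le_add_left N m)).1 i
  have hrg : ∀ (i : Fin (𝓔.l + 2)) (x : X), rg ((𝓕.induced ι).pieceX i) x =
      (rg (imageSubobject ((𝓔.pieceX i).arrow ≫ q)) x).map (stalkLin r x) := fun i x => by
    haveI := hg i
    haveI := ShStabLib.isIso_of_hp_eq k hL (g i) (hA i) (hB i) (ShStabLib.dimLE_of_mono
      (ShStabLib.dimLE_of_mono hdF ι) ((𝓕.induced ι).pieceX i).arrow) (heq i ▸ hAX i) (hWX i)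
    refine le_antisymm ?_ (hmap i x)
    rintro _ ⟨z, rfl⟩
    obtain ⟨y, rfl⟩ := ((isIso_iff_stalk (g i)).1 inferInstance x).2 z
    refine ⟨stalkLin (imageSubobject ((𝓔.pieceX i).arrow ≫ q)).arrow x y, ⟨y, rfl⟩, ?_⟩
    rw [← LinearMap.comp_apply, ← stalkLin_comp, ← LinearMap.comp_apply, ← stalkLin_comp, Subobject.factorThru_arrow]
  have hrbij : ∀ x : X, Function.Bijective (stalkLin r x) := fun x => ⟨(mono_iff_stalk r).1 inferInstance x, fun z => by
    have h := hrg 0 x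
    rw [show (𝓕.induced ι).pieceX 0 = (⊤ : Subobject W) from
      ((𝓕.induced ι).pieceX_castSucc 0).trans (𝓕.induced ι).piece_zero, rg_top] at h
    obtain ⟨y, -, hy⟩ := h.le (show z ∈ (⊤ : Submodule _ _) from trivial)
    exact ⟨y, hy⟩⟩
  haveI : IsIso r := (isIso_iff_stalk r).2 hrbij
  refine ⟨fun QK QKX hQK hQKX => ?_, ?_, fun a _ _ => ?_⟩
  · obtain rfl := ShStabLib.hp_unique k hQK hQK₀
    obtain rfl : QKX = KX₀ := funext fun i => ShStabLib.hp_unique k (hQKX i) (hKX₀ i)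
    refine eq_of_eventually (hall.mono fun m hm => ?_)
    rw [eval_mul, eval_mul, eval_C, eval_C]
    exact hm.2
  · let e : cokernel u ≅ cokernel ι := cokernelIsoOfEq hr.symm ≪≫ cokernelEpiComp r ι
    exact ShStabLib.isPure_of_mono hsat e.hom
  · have hpiece : ∀ (i : Fin (𝓔.l + 2)) (x : X), rg (imageSubobject ((𝓔.pieceX i).arrow ≫ q)) x =
        (rg (𝓕.pieceX i) x).comap (stalkLin u x) := fun i x => by
      rw [← hr, stalkLin_comp, Submodule.comap_comp]
      have h := hrg i x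
      rw [ParHilbLib.pieceX_induced, rg_pullback] at h
      rw [h, Submodule.comap_map_eq_of_injective (hrbij x).1]
    refine eq_of_rg_eq fun x => ?_
    rcases at_cases 𝓔.wt a with h | ⟨i, hi, hlt⟩
    · rw [(𝓔.coinduced q).at_eq_bot h, (𝓕.induced u).at_eq_bot h]
      have := hpiece (Fin.last _) x
      rw [ParSh.Str.pieceX_last, show 𝓕.pieceX (Fin.last _) = 𝓕.bot from 𝓕.pieceX_last] at this
      exact this.trans (rg_pullback u 𝓕.bot x).symm
    · rw [(𝓔.coinduced q).at_eq_piece i hi hlt, (𝓕.induced u).at_eq_piece i hi hlt]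
      have := hpiece i.castSucc x
      rw [ParSh.Str.pieceX_castSucc, show 𝓕.pieceX i.castSucc = 𝓕.piece i from 𝓕.pieceX_castSucc i] at this
      exact this.trans (rg_pullback u (𝓕.piece i) x).symm

end Groth.Agent.ParCurve
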