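import Groth.Agent.ParHilbLib.Basic
import Groth.Agent.LazMukLib.Stable
import Groth.Agent.CoprimaryLib.Family
import Groth.Agent.RefOne.Divisor
import Groth.Agent.SyzLib.Sheaf
import Groth.Agent.IdealMulLib.Basic

/-!
# Subobjects of modules through their stalks
-/

set_option autoImplicit false
set_option backward.isDefEq.respectTransparency false
set_option linter.style.haveILetI false
set_option maxHeartbeats 1000000
set_option synthInstance.maxHeartbeats 200000

universe u

open CategoryTheory CategoryTheory.Limits AlgebraicGeometry TopologicalSpace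
open Groth.Agent.PullbackMod Groth.Agent.DCohLib
open scoped TensorProduct

noncomputable section

namespace Groth.Agent.ParCurve

variable {X : Scheme.{u}}

/-- The stalk of a subobject inside the stalk of the module. -/
def rg {M : X.Modules} (S : Subobject M) (x : X) : Submodule (X.presheaf.stalk x) (M.presheaf.stalk x) :=
  LinearMap.range (stalkLin S.arrow x)

theorem rg_mk {A M : X.Modules} (f : A ⟶ M) [Mono f] (x : X) :
    rg (Subobject.mk f) x = LinearMap.range (stalkLin f x) := by
  refine le_antisymm ?_ ?_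
  · rintro _ ⟨z, rfl⟩
    refine ⟨stalkLin (Subobject.underlyingIso f).hom x z, ?_⟩
    rw [← LinearMap.comp_apply, ← stalkLin_comp, Subobject.underlyingIso_hom_comp_eq_mk]
  · rintro _ ⟨z, rfl⟩
    refine ⟨stalkLin (Subobject.underlyingIso f).inv x z, ?_⟩
    rw [← LinearMap.comp_apply, ← stalkLin_comp, Subobject.underlyingIso_arrow]

theorem rg_mono {M : X.Modules} {S T : Subobject M} (h : S ≤ T) (x : X) : rg S x ≤ rg T x := by
  rintro _ ⟨z, rfl⟩
  exact ⟨stalkLin (Subobject.ofLE S T h) x z, by rw [← LinearMap.comp_apply, ← stalkLin_comp, Subobject.ofLE_arrow]⟩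

/-- A map factors through a subobject iff it does so on stalks. -/
theorem factors_iff {A M : X.Modules} (T : Subobject M) (f : A ⟶ M) :
    T.Factors f ↔ ∀ x : X, LinearMap.range (stalkLin f x) ≤ rg T x := by
  constructor
  · intro h x
    rintro _ ⟨z, rfl⟩
    exact ⟨stalkLin (T.factorThru f h) x z, by
      rw [← LinearMap.comp_apply, ← stalkLin_comp, Subobject.factorThru_arrow]⟩
  · intro h
    have hz : f ≫ cokernel.π T.arrow = 0 := (eq_zero_iff_stalk _).2 fun x => LinearMap.ext fun z => by
      obtain ⟨w, hw⟩ := h x ⟨z, rfl⟩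
      rw [stalkLin_comp, LinearMap.comp_apply, ← hw, ← LinearMap.comp_apply, ← stalkLin_comp, cokernel.condition,
        (eq_zero_iff_stalk _).1 rfl x]
      rfl
    rw [← Subobject.mk_arrow T]
    exact (Subobject.mk_factors_iff _ _).2 ⟨Abelian.monoLift T.arrow f hz, Abelian.monoLift_comp _ _ _⟩

theorem le_of_rg_le {M : X.Modules} {S T : Subobject M} (h : ∀ x, rg S x ≤ rg T x) : S ≤ T := by
  have hf := (factors_iff T S.arrow).2 h
  exact Subobject.le_of_comm (T.factorThru S.arrow hf) (Subobject.factorThru_arrow _ _ _)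

theorem eq_of_rg_eq {M : X.Modules} {S T : Subobject M} (h : ∀ x, rg S x = rg T x) : S = T :=
  le_antisymm (le_of_rg_le fun x => (h x).le) (le_of_rg_le fun x => (h x).ge)

theorem rg_image {A M : X.Modules} (f : A ⟶ M) (x : X) :
    rg (imageSubobject f) x = LinearMap.range (stalkLin f x) := by
  have hs : Function.Surjective (stalkLin (factorThruImageSubobject f) x) :=
    (epi_iff_stalk _).1 inferInstance x
  rw [show stalkLin f x = stalkLin (factorThruImageSubobject f ≫ (imageSubobject f).arrow) x by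
    rw [imageSubobject_arrow_comp], stalkLin_comp, LinearMap.range_comp, LinearMap.range_eq_top.2 hs,
    Submodule.map_top]
  rfl

theorem rg_image_comp {A M : X.Modules} (S : Subobject A) (f : A ⟶ M) (x : X) :
    rg (imageSubobject (S.arrow ≫ f)) x = (rg S x).map (stalkLin f x) := by
  rw [rg_image, stalkLin_comp, LinearMap.range_comp]
  rfl

theorem rg_top {M : X.Modules} (x : X) : rg (⊤ : Subobject M) x = ⊤ := by
  refine LinearMap.range_eq_top.2 fun z => ?_
  exact ((isIso_iff_stalk (⊤ : Subobject M).arrow).1 inferInstance x).2 z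

theorem rg_pullback {W M : X.Modules} (ι : W ⟶ M) (S : Subobject M) (x : X) :
    rg ((Subobject.pullback ι).obj S) x = (rg S x).comap (stalkLin ι x) := by
  refine le_antisymm ?_ ?_
  · rintro _ ⟨z, rfl⟩
    refine Submodule.mem_comap.2 ⟨stalkLin (Subobject.pullbackπ ι S) x z, ?_⟩
    rw [← LinearMap.comp_apply, ← stalkLin_comp, ← LinearMap.comp_apply, ← stalkLin_comp,
      (Subobject.isPullback ι S).w]
  · intro z hz
    obtain ⟨w, hw⟩ := Submodule.mem_comap.1 hz
    let φ : W ⟶ cokernel S.arrow := ι ≫ cokernel.π S.arrow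
    have h0 : stalkLin φ x z = 0 := by
      rw [stalkLin_comp, LinearMap.comp_apply, ← hw, ← LinearMap.comp_apply, ← stalkLin_comp, cokernel.condition,
        (eq_zero_iff_stalk _).1 rfl x]
      rfl
    have hex := SyzLib.exact_stalkLin' (ShortComplex.mk (kernel.ι φ) φ (kernel.condition φ))
      (ShortComplex.exact_of_f_is_kernel _ (kernelIsKernel φ)) x
    obtain ⟨t, rfl⟩ := (hex z).1 h0
    have hzz : (kernel.ι φ ≫ ι) ≫ cokernel.π S.arrow = 0 := by rw [Category.assoc]; exact kernel.condition φ
    let m := (Subobject.isPullback ι S).lift (Abelian.monoLift S.arrow (kernel.ι φ ≫ ι) hzz) (kernel.ι φ)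
      (Abelian.monoLift_comp _ _ _)
    refine ⟨stalkLin m x t, ?_⟩
    rw [← LinearMap.comp_apply, ← stalkLin_comp, IsPullback.lift_snd]

/-- The stalk of `I · M`. -/
theorem rg_twistSub [IsLocallyNoetherian X] (I : X.IdealSheafData) (M : X.Modules) (x : X) :
    rg (ParSh.twistSub I M) x =
      IntMult.stalkIdeal I x • (⊤ : Submodule (X.presheaf.stalk x) (M.presheaf.stalk x)) := by
  let R := X.presheaf.stalk x
  obtain ⟨-, hran⟩ := RefOne.idealModι_stalk I x
  let θ := stalkLin (SecTwist.unitorR M).hom x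
  let φ : M.presheaf.stalk x → M.presheaf.stalk x := fun e =>
    θ (stalkTensor x M (Coh.structureModule X) (e ⊗ₜ[R] RefOne.oEquiv x 1))
  have hscale : ∀ (e : M.presheaf.stalk x) (r : R),
      θ (stalkTensor x M (Coh.structureModule X) (e ⊗ₜ[R] RefOne.oEquiv x r)) = r • φ e := fun e r => by
    rw [show RefOne.oEquiv x r = r • RefOne.oEquiv x 1 by rw [← map_smul, smul_eq_mul, mul_one],
      TensorProduct.tmul_smul, map_smul, map_smul]
  have hφ : Function.Surjective φ := by
    intro y
    obtain ⟨z, rfl⟩ := ((isIso_iff_stalk (SecTwist.unitorR M).hom).1 inferInstance x).2 y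
    obtain ⟨w, rfl⟩ := (stalkTensor x M (Coh.structureModule X)).surjective z
    induction w using TensorProduct.induction_on with
    | zero =>
      refine ⟨0, ?_⟩
      show θ (stalkTensor x M (Coh.structureModule X) (0 ⊗ₜ[R] RefOne.oEquiv x 1)) = _
      rw [TensorProduct.zero_tmul, map_zero]
    | tmul e o =>
      obtain ⟨r, rfl⟩ := (RefOne.oEquiv x).surjective o
      refine ⟨r • e, ?_⟩
      show θ (stalkTensor x M (Coh.structureModule X) ((r • e) ⊗ₜ[R] RefOne.oEquiv x 1)) = _
      rw [TensorProduct.smul_tmul, ← map_smul, smul_eq_mul, mul_one]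
    | add a b ha hb =>
      obtain ⟨ea, hea⟩ := ha
      obtain ⟨eb, heb⟩ := hb
      refine ⟨ea + eb, ?_⟩
      show θ (stalkTensor x M (Coh.structureModule X) ((ea + eb) ⊗ₜ[R] RefOne.oEquiv x 1)) = _
      rw [TensorProduct.add_tmul, map_add, map_add, map_add, map_add]
      exact congrArg₂ (· + ·) hea heb
  have e : KoszTw.tensorMap (𝟙 M) (ClSub.idealModι I) = (DCoh.tensorBi.obj M).map (ClSub.idealModι I) := by
    unfold KoszTw.tensorMap; rw [CategoryTheory.Functor.map_id]; exact Category.id_comp _
  have hmap : ∀ (m : M.presheaf.stalk x) (a : (ClSub.idealMod I).presheaf.stalk x),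
      stalkLin (ParSh.twistMap I M) x (stalkTensor x M (ClSub.idealMod I) (m ⊗ₜ[R] a)) =
        θ (stalkTensor x M (Coh.structureModule X) (m ⊗ₜ[R] stalkLin (ClSub.idealModι I) x a)) := fun m a => by
    rw [ParSh.twistMap, e, stalkLin_comp, LinearMap.comp_apply]
    exact congrArg θ ((stalkTensor_natural_right x (ClSub.idealModι I) (m ⊗ₜ[R] a)).trans rfl)
  rw [ParSh.twistSub, rg_image]
  refine le_antisymm ?_ (Submodule.smul_le.2 fun r hr y _ => ?_)
  · rintro _ ⟨z, rfl⟩
    obtain ⟨w, rfl⟩ := (stalkTensor x M (ClSub.idealMod I)).surjective z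
    induction w using TensorProduct.induction_on with
    | zero => rw [map_zero, map_zero]; exact zero_mem _
    | tmul m a =>
      obtain ⟨r, hr⟩ := (RefOne.oEquiv x).surjective (stalkLin (ClSub.idealModι I) x a)
      rw [hmap, ← hr, hscale]
      exact Submodule.smul_mem_smul ((hran r).1 ⟨a, hr.symm⟩) trivial
    | add a b ha hb => rw [map_add, map_add]; exact add_mem ha hb
  · obtain ⟨m, rfl⟩ := hφ y
    obtain ⟨a, ha⟩ := (hran r).2 hr
    exact ⟨stalkTensor x M (ClSub.idealMod I) (m ⊗ₜ[R] a), by rw [hmap, ha, hscale]⟩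

/-- Submodules lying above a coherent one with quotient supported at finitely many closed points are
coherent. -/
theorem isCoh_of_between [IsLocallyNoetherian X] {E : X.Modules} (hE : Coh.IsCoh E) {G P : Subobject E}
    (hG : Coh.IsCoh (G : X.Modules)) (hGP : G ≤ P) (hfin : (CohB1.support (cokernel G.arrow)).Finite)
    (hcl : ∀ x ∈ CohB1.support (cokernel G.arrow), IsClosed ({x} : Set X)) : Coh.IsCoh (P : X.Modules) := by
  have hQc := (QCohLib.isCoh_kernel_cokernel G.arrow hG hE).2
  haveI := hQc.1
  let A := CohB1.support (cokernel G.arrow)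
  have habs : ∀ x : A, DevLib.Absorbs (M := E) (rg P x.1) := by
    rintro ⟨x, hx⟩
    have hc : IsClosed (A \ {x}) := by
      rw [← Set.biUnion_of_singleton (A \ {x})]
      exact (hfin.subset Set.diff_subset).isClosed_biUnion fun y hy => hcl y hy.1
    have hbot : DevLib.Absorbs (⊥ : Submodule (X.presheaf.stalk x) ((cokernel G.arrow).presheaf.stalk x)) :=
      DevLib.absorbs_bot (W₀ := ⟨(A \ {x})ᶜ, hc.isOpen_compl⟩) (fun h => h.2 rfl) fun y hy hyA => by
        by_cases hyx : y = x
        · exact hyx ▸ specializes_rfl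
        · exact absurd ⟨hyA, hyx⟩ hy
    refine DevLib.Absorbs.mono (S := rg G x) ?_ (rg_mono hGP x)
    intro a ha z
    obtain ⟨n, hn⟩ := hbot a ha (stalkLin (cokernel.π G.arrow) x z)
    rw [Submodule.mem_bot, ← map_smul] at hn
    obtain ⟨w, hw⟩ := (SyzLib.exact_stalkLin' (ShortComplex.mk G.arrow (cokernel.π G.arrow) (cokernel.condition _))
      (ShortComplex.exact_of_g_is_cokernel _ (cokernelIsCokernel G.arrow)) x _).1 hn
    exact ⟨n, w, hw⟩
  let S : ∀ x : A, Submodule (X.presheaf.stalk x.1) (E.presheaf.stalk x.1) := fun x => rg P x.1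
  have hSc : Coh.IsCoh (CoprimaryLib.subFam S) :=
    CoprimaryLib.isCoh_subFam S hE habs fun W _ => hfin.subset Set.inter_subset_left
  have heq : Subobject.mk (CoprimaryLib.subFamι S) = P := by
    refine le_antisymm (le_of_rg_le fun y => ?_) (le_of_rg_le fun y => ?_)
    · rw [rg_mk]
      by_cases hy : y ∈ A
      · rintro _ ⟨z, rfl⟩
        obtain ⟨U, hyU, t, rfl⟩ := TopCat.Presheaf.exists_germ_eq (CoprimaryLib.subFam S).presheaf z
        rw [stalkLin_germ]
        exact (CoprimaryLib.exists_app_subFamι S U _).1 ⟨t, rfl⟩ ⟨y, hy⟩ hyU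
      · intro z _
        refine rg_mono hGP y ?_
        exact LazMuk.mem_support_coker_iff G.arrow y hy z
    · rw [rg_mk]
      rintro _ ⟨z, rfl⟩
      obtain ⟨U, hyU, s, rfl⟩ := TopCat.Presheaf.exists_germ_eq (P : X.Modules).presheaf z
      rw [stalkLin_germ]
      obtain ⟨t, ht⟩ := (CoprimaryLib.exists_app_subFamι S U (P.arrow.app U s)).2 fun a ha =>
        ⟨(P : X.Modules).presheaf.germ U a.1 ha s, stalkLin_germ _ _ _ _⟩
      exact ⟨(CoprimaryLib.subFam S).presheaf.germ U y hyU t, by rw [stalkLin_germ, ht]⟩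
  rw [← heq]
  exact ShStabLib.isCoh_of_iso (Subobject.underlyingIso (CoprimaryLib.subFamι S)).symm hSc

end Groth.Agent.ParCurve
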